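import Cfsg.Agent.RuLattice.Census.Parity

/-!
The vectors of norm 16 on a certified word.
-/

set_option autoImplicit false
set_option maxRecDepth 100000

namespace Cfsg.Agent.RuLattice

open Cfsg.Agent.CosetEnum

variable {x : Vec}

theorem sq_bound (k : Fin 56) :
    (if x k % 2 = 1 then (1 : ℤ) else 0) + 4 * (if x k % 4 = 2 then (1 : ℤ) else 0) ≤ x k * x k := by
  rcases eq_or_ne (x k) 0 with h | h
  · simp [h]
  · have h1 := mul_self_pos.2 h
    by_cases h2 : x k % 4 = 2
    · rw [if_pos h2, if_neg (by omega)]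
      rcases (show 2 ≤ x k ∨ x k ≤ -2 by omega) with h3 | h3 <;> nlinarith
    · rw [if_neg h2]
      split <;> omega

theorem cnt_mask : (cnt 56 (mask x) : ℤ) = ∑ k, if x k % 2 = 1 then (1 : ℤ) else 0 := by
  rw [cnt_cast]
  exact Finset.sum_congr rfl fun k _ => by simp [mask_testBit]

theorem cnt_mask_le (hn : dot x x = 16) : cnt 56 (mask x) ≤ 16 := by
  have : (cnt 56 (mask x) : ℤ) ≤ 16 := by
    rw [cnt_mask, ← hn, dot]
    refine Finset.sum_le_sum fun k _ => le_trans ?_ (sq_bound k)
    split <;> split <;> norm_num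
  exact_mod_cast this

/-- The positions congruent to 2 modulo 4. -/
def twoSet (x : Vec) : Finset (Fin 56) := Finset.univ.filter fun k => x k % 4 = 2

theorem weight_two (hn : dot x x = 16) : cnt 56 (mask x) + 4 * (twoSet x).card ≤ 16 := by
  have : (cnt 56 (mask x) : ℤ) + 4 * ((twoSet x).card : ℤ) ≤ 16 := by
    rw [cnt_mask, twoSet, Finset.card_filter, Nat.cast_sum, Finset.mul_sum, ← Finset.sum_add_distrib,
      ← hn, dot]
    refine Finset.sum_le_sum fun k _ => ?_
    have := sq_bound (x := x) k
    push_cast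
    exact this
  exact_mod_cast this

theorem cnt_and_two {E : ℕ} (hE : E &&& mask x = 0) :
    cnt 56 (hiPlane x &&& E) = ∑ k ∈ twoSet x, if E.testBit k.val then 1 else 0 := by
  rw [cnt, twoSet, Finset.sum_filter]
  refine Finset.sum_congr rfl fun k _ => ?_
  have h := congrArg (fun z => z.testBit k.val) hE
  simp only [Nat.testBit_and, mask_testBit, Nat.zero_testBit] at h
  simp only [Nat.testBit_and, hiPlane_testBit]
  cases hk : E.testBit k.val
  · simp
  · rw [hk] at h
    simp at h
    by_cases h2 : x k % 4 = 2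
    · simp [h2]
    · simp [h2]; omega

theorem par_pow (E : ℕ) (k : Fin 56) :
    par (E &&& 2 ^ k.val) = if E.testBit k.val then 1 else 0 := by
  have hlt : E &&& 2 ^ k.val < 2 ^ 56 :=
    lt_of_le_of_lt Nat.and_le_right (Nat.pow_lt_pow_right (by norm_num) k.isLt)
  rw [par_eq hlt, cnt, Finset.sum_eq_single k]
  · simp only [Nat.testBit_and, Nat.testBit_two_pow_self, Bool.and_true]
    split <;> rfl
  · intro b _ hb
    have hne : k.val ≠ b.val := fun e => hb (Fin.ext e.symm)
    simp [Nat.testBit_and, Nat.testBit_two_pow, hne]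
  · simp

theorem eight_absurd (hx : x ∈ lat) (hn : dot x x = 16) {cs : List ℕ}
    (h : wordOK parM planeM (mask x, .eight cs) = true) : False := by
  simp only [wordOK, forceNat_eq, eightB, Bool.and_eq_true, List.all_eq_true] at h
  obtain ⟨h8, ⟨hE, hpair⟩, hsing⟩ := h
  have h8 : cnt 56 (mask x) = 8 := by
    rw [← pcA_zero_eq (mask_lt x) le_rfl]; exact Nat.eq_of_beq_eq_true h8
  have hO := weight_two hn
  set hv := halfV (mask x) planeM
  have heq : ∀ c ∈ cs, (∑ k ∈ twoSet x, if (combE c parM).testBit k.val then 1 else 0) % 2 = rhs c hv :=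
    fun c hc => by rw [← cnt_and_two (Nat.eq_of_beq_eq_true (hE c hc))]; exact comb_equation hx c
  have pairF : ∀ a b : Fin 56, ∃ c ∈ cs,
      ((if (combE c parM).testBit a.val then 1 else 0) + if (combE c parM).testBit b.val then 1 else 0) % 2
        ≠ rhs c hv := fun a b => by
    have h' := allRange_spec (allRange_spec hpair a.val (Nat.zero_le _) (by omega)) b.val (Nat.zero_le _) (by omega)
    obtain ⟨c, hc, hc'⟩ := List.any_eq_true.1 h'
    refine ⟨c, hc, fun e => ?_⟩
    rw [par_pow, par_pow, e, Nat.beq_refl] at hc'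
    simp at hc'
  have singleF : ∀ a : Fin 56, ∃ c ∈ cs,
      (if (combE c parM).testBit a.val then 1 else 0) ≠ rhs c hv := fun a => by
    have h' := allRange_spec hsing a.val (Nat.zero_le _) (by omega)
    obtain ⟨c, hc, hc'⟩ := List.any_eq_true.1 h'
    refine ⟨c, hc, fun e => ?_⟩
    rw [par_pow, e, Nat.beq_refl] at hc'
    simp at hc'
  have h3 : (twoSet x).card = 0 ∨ (twoSet x).card = 1 ∨ (twoSet x).card = 2 := by omega
  rcases h3 with h3 | h3 | h3
  · obtain ⟨c, hc, hne⟩ := pairF 0 0
    have := heq c hc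
    rw [Finset.card_eq_zero.1 h3, Finset.sum_empty] at this
    refine hne ?_
    split <;> omega
  · obtain ⟨a, ha⟩ := Finset.card_eq_one.1 h3
    obtain ⟨c, hc, hne⟩ := singleF a
    have := heq c hc
    rw [ha, Finset.sum_singleton] at this
    refine hne ?_
    split at this <;> split <;> simp_all
  · obtain ⟨a, b, hab, ha⟩ := Finset.card_eq_two.1 h3
    obtain ⟨c, hc, hne⟩ := pairF a b
    have := heq c hc
    rw [ha, Finset.sum_pair hab] at this
    exact hne this

theorem sixteen_shape (hn : dot x x = 16) (h16 : cnt 56 (mask x) = 16) (k : Fin 56) :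
    x k = if x k % 2 = 1 then (if 2 ≤ x k % 4 then -1 else 1) else 0 := by
  have hsum : ∑ k, (x k * x k - if x k % 2 = 1 then (1 : ℤ) else 0) = 0 := by
    have hc := cnt_mask (x := x)
    rw [h16] at hc
    rw [Finset.sum_sub_distrib]
    have : ∑ k, x k * x k = 16 := hn
    omega
  have h0 := (Finset.sum_eq_zero_iff_of_nonneg fun l _ => by
    have := sq_bound (x := x) l
    have h2 : (0 : ℤ) ≤ if x l % 4 = 2 then 1 else 0 := by split <;> norm_num
    omega).1 hsum k (Finset.mem_univ k)
  by_cases h : x k % 2 = 1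
  · rw [if_pos h] at h0 ⊢
    rcases mul_self_eq_one_iff.1 (by omega : x k * x k = 1) with e | e <;> rw [e] <;> norm_num
  · rw [if_neg h] at h0 ⊢
    exact mul_self_eq_zero.1 (by omega)

theorem hiPlane_sub (hn : dot x x = 16) (h16 : cnt 56 (mask x) = 16) (k : Fin 56)
    (hk : (hiPlane x).testBit k.val = true) : (mask x).testBit k.val = true := by
  rw [hiPlane_testBit, decide_eq_true_eq] at hk
  rw [mask_testBit, decide_eq_true_eq]
  have := sixteen_shape hn h16 k
  by_contra h
  rw [if_neg h] at this
  omega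

theorem empty_absurd (hx : x ∈ lat) (hn : dot x x = 16) {c : ℕ}
    (h : wordOK parM planeM (mask x, .empty c) = true) : False := by
  simp only [wordOK, forceNat_eq, Bool.and_eq_true] at h
  obtain ⟨h16, hE, hr⟩ := h
  have h16 : cnt 56 (mask x) = 16 := by
    rw [← pcA_zero_eq (mask_lt x) le_rfl]; exact Nat.eq_of_beq_eq_true h16
  have h1 := comb_equation hx c
  rw [Nat.eq_of_beq_eq_true hr] at h1
  have h0 : cnt 56 (hiPlane x &&& combE c parM) = 0 := by
    rw [cnt_and_two (Nat.eq_of_beq_eq_true hE)]
    have := weight_two hn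
    rw [Finset.card_eq_zero.1 (by omega : (twoSet x).card = 0), Finset.sum_empty]
  omega

theorem mem_span_bits : ∀ (free : List ℕ) (z : ℕ), (∀ k, z.testBit k = true → k ∈ free) →
    z ∈ span (free.map fun b => 2 ^ b)
  | [], z, h => by
    rw [List.map_nil, span_nil, List.mem_singleton]
    exact Nat.eq_of_testBit_eq fun i => by
      rw [Nat.zero_testBit]
      exact Bool.eq_false_iff.2 fun e => absurd (h i e) List.not_mem_nil
  | b :: bs, z, h => by
    rw [List.map_cons, span_cons, List.mem_append, List.mem_map]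
    cases hb : z.testBit b
    · refine Or.inl (mem_span_bits bs z fun k hk => ?_)
      rcases List.mem_cons.1 (h k hk) with rfl | hm
      · rw [hb] at hk; cases hk
      · exact hm
    · refine Or.inr ⟨z ^^^ 2 ^ b, mem_span_bits bs _ fun k hk => ?_, ?_⟩
      · rw [Nat.testBit_xor, Nat.testBit_two_pow] at hk
        by_cases e : b = k
        · subst e; simp [hb] at hk
        · rw [decide_eq_false e, Bool.xor_false] at hk
          exact (List.mem_cons.1 (h k hk)).resolve_left fun e' => e e'.symm
      · rw [Nat.xor_comm, Nat.xor_assoc, Nat.xor_self, Nat.xor_zero]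

theorem orBits_testBit (L : List ℕ) (k : ℕ) : (orBits L).testBit k = L.contains k := by
  induction L with
  | nil => simp [orBits]
  | cons b L ih =>
    show (2 ^ b ||| orBits L).testBit k = _
    rw [Nat.testBit_or, Nat.testBit_two_pow, ih, List.contains_cons]
    congr 1
    rw [Bool.eq_iff_iff, decide_eq_true_iff, beq_iff_eq, eq_comm]

theorem rebuild_testBit (pm : List ℕ) (m hv : ℕ) (T0 k : ℕ) : ∀ pivs : List (ℕ × ℕ),
    (rebuild pm m hv pivs T0).testBit k = (T0.testBit k || pivs.any fun q => decide (q.1 = k) &&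
      decide ((rhs q.2 hv + par (T0 &&& combE q.2 pm)) % 2 = 1))
  | [] => by simp [rebuild]
  | q :: pivs => by
    show (bif Nat.beq _ 1 then 2 ^ q.1 ||| rebuild pm m hv pivs T0
      else rebuild pm m hv pivs T0).testBit k = _
    rw [List.any_cons]
    by_cases h : (rhs q.2 hv + par (T0 &&& combE q.2 pm)) % 2 = 1
    · rw [h, Nat.beq_refl, cond_true, Nat.testBit_or, Nat.testBit_two_pow, rebuild_testBit pm m hv T0 k pivs,
        decide_eq_true (rfl : 1 = 1), Bool.and_true, Bool.or_left_comm]
    · rw [show Nat.beq ((rhs q.2 hv + par (T0 &&& combE q.2 pm)) % 2) 1 = false from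
        Bool.eq_false_iff.2 fun e => h (Nat.eq_of_beq_eq_true e), cond_false,
        rebuild_testBit pm m hv T0 k pivs, decide_eq_false h, Bool.and_false, Bool.false_or]

theorem sol_line (hx : x ∈ lat) (hn : dot x x = 16) {free sols : List ℕ} {pivs : List (ℕ × ℕ)}
    (h : wordOK parM planeM (mask x, .sol free pivs sols) = true) :
    ∃ i < 4060, ∃ e < 4, x = unitV (lineN i) e := by
  simp only [wordOK, forceNat_eq, Bool.and_eq_true, List.all_eq_true] at h
  obtain ⟨h16, ⟨⟨hF, hpiv⟩, hlen⟩, hsol⟩ := h
  have h16 : cnt 56 (mask x) = 16 := by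
    rw [← pcA_zero_eq (mask_lt x) le_rfl]; exact Nat.eq_of_beq_eq_true h16
  have hF : orBits free ||| orBits (pivs.map Prod.fst) = mask x := Nat.eq_of_beq_eq_true hF
  set T := hiPlane x with hT
  set F := orBits free with hFdef
  set hv := halfV (mask x) planeM
  set T0 := T &&& F with hT0
  have hT0lt : ∀ E : ℕ, T0 &&& E < 2 ^ 56 := fun E =>
    lt_of_le_of_lt (Nat.and_le_left.trans Nat.and_le_left) (hiPlane_lt x)
  have hTout : ∀ k : ℕ, T.testBit k = true → (mask x).testBit k = true := fun k hk => by
    by_cases hk' : k < 56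
    · exact hiPlane_sub hn h16 ⟨k, hk'⟩ hk
    · exfalso
      rw [Nat.testBit_lt_two_pow ((hiPlane_lt x).trans_le
        (Nat.pow_le_pow_right (by norm_num) (not_lt.1 hk')))] at hk
      cases hk
  have hdec : ∀ q ∈ pivs,
      ((rhs q.2 hv + par (T0 &&& combE q.2 parM)) % 2 = 1 ↔ T.testBit q.1 = true) := by
    intro q hq
    obtain ⟨he, hnF⟩ := hpiv q hq
    have he := Nat.eq_of_beq_eq_true he
    rw [Bool.not_eq_true'] at hnF
    have hsum : cnt 56 (T &&& combE q.2 parM) =
        cnt 56 (T0 &&& combE q.2 parM) + if T.testBit q.1 then 1 else 0 := by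
      have hq56 : q.1 < 56 := by
        by_contra hc
        have h1 : (mask x).testBit q.1 = true := by
          rw [← hF, Nat.testBit_or, orBits_testBit (pivs.map Prod.fst), List.contains_iff_mem.2 (List.mem_map_of_mem hq),
            Bool.or_true]
        rw [Nat.testBit_lt_two_pow ((mask_lt x).trans_le
          (Nat.pow_le_pow_right (by norm_num) (not_lt.1 hc)))] at h1
        cases h1
      rw [show (if T.testBit q.1 then 1 else 0 : ℕ) =
          ∑ k : Fin 56, if k.val = q.1 ∧ T.testBit k.val = true then 1 else 0 by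
        rw [Finset.sum_eq_single (⟨q.1, hq56⟩ : Fin 56)]
        · simp
        · intro b _ hb
          simp [show b.val ≠ q.1 from fun e => hb (Fin.ext e)]
        · simp]
      simp only [cnt, ← Finset.sum_add_distrib]
      refine Finset.sum_congr rfl fun k _ => ?_
      have hb := congrArg (fun z => z.testBit k.val) he
      simp only [Nat.testBit_or, Nat.testBit_and, Nat.testBit_two_pow] at hb
      simp only [hT0, Nat.testBit_and]
      cases hTk : T.testBit k.val
      · simp
      · rw [hTout _ hTk, Bool.and_true] at hb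
        by_cases hkq : q.1 = k.val
        · rw [← hkq, hnF] at hb ⊢
          simp at hb
          simp [hb]
        · rw [decide_eq_false hkq, Bool.false_or] at hb
          cases hFk : F.testBit k.val <;> rw [hFk] at hb <;>
            simp_all [Ne.symm hkq]
    have heq : cnt 56 (T &&& combE q.2 parM) % 2 = rhs q.2 hv := comb_equation hx q.2
    rw [par_eq (hT0lt _)]
    by_cases hT1 : T.testBit q.1 = true
    · rw [if_pos hT1] at hsum
      rw [hsum] at heq
      refine iff_of_true ?_ hT1
      clear_value T T0 F hv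
      revert heq
      generalize cnt 56 (T0 &&& combE q.2 parM) = A, rhs q.2 hv = G
      intro heq
      omega
    · rw [if_neg hT1] at hsum
      rw [hsum] at heq
      refine iff_of_false ?_ hT1
      clear_value T T0 F hv
      revert heq
      generalize cnt 56 (T0 &&& combE q.2 parM) = A, rhs q.2 hv = G
      intro heq
      omega
  have hT0mem : T0 ∈ span (free.map fun b => 2 ^ b) := mem_span_bits free T0 fun k hk => by
    rw [hT0, Nat.testBit_and, Bool.and_eq_true, hFdef, orBits_testBit, List.contains_iff_mem] at hk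
    exact hk.2
  obtain ⟨a, ha, hae⟩ := List.getElem_of_mem hT0mem
  have hlen := Nat.eq_of_beq_eq_true hlen
  have hz := hsol ((span (free.map fun b => 2 ^ b))[a], sols[a]'(hlen ▸ ha))
    (List.mem_iff_getElem.2 ⟨a, by rw [List.length_zip]; omega, List.getElem_zip⟩)
  rw [hae] at hz
  have hreb : rebuild parM (mask x) hv pivs T0 = T := by
    refine Nat.eq_of_testBit_eq fun k => ?_
    rw [rebuild_testBit]
    cases hTk : T.testBit k
    · rw [hT0, Nat.testBit_and, hTk, Bool.false_and, Bool.false_or, List.any_eq_false]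
      intro q hq hc
      simp only [Bool.and_eq_true, decide_eq_true_eq] at hc
      obtain ⟨hqk, hc⟩ := hc
      have := (hdec q hq).1 hc
      rw [hqk, hTk] at this
      cases this
    · have hm := hTout k hTk
      rw [← hF, Nat.testBit_or, orBits_testBit (pivs.map Prod.fst), Bool.or_eq_true] at hm
      rw [Bool.or_eq_true]
      rcases hm with hm | hm
      · exact Or.inl (by rw [hT0, Nat.testBit_and, hTk, hm]; rfl)
      · obtain ⟨q, hq, hqk⟩ := List.mem_map.1 (List.contains_iff_mem.1 hm)
        refine Or.inr (List.any_eq_true.2 ⟨q, hq, ?_⟩)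
        rw [decide_eq_true hqk, decide_eq_true ((hdec q hq).2 (by rw [hqk]; exact hTk))]
        rfl
  simp only [sameV, hreb, forceNat_eq, Bool.and_eq_true] at hz
  refine ⟨_, Nat.le_of_ble_eq_true hz.1, sols[a]'(hlen ▸ ha) % 4, Nat.mod_lt _ (by norm_num),
    funext fun k => ?_⟩
  have hk := Nat.eq_of_beq_eq_true (allRange_spec hz.2 k.val (Nat.zero_le _) (by omega))
  rw [mask_testBit, hT, hiPlane_testBit] at hk
  simp only [unitV, hk]
  rw [sixteen_shape hn h16 k]
  by_cases h1 : x k % 2 = 1 <;> by_cases h2 : 2 ≤ x k % 4 <;> simp [h1, h2]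

end Cfsg.Agent.RuLattice
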