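import Cfsg.Agent.RuLattice.Census.Masks
import Cfsg.Agent.RuLattice.Census.Data0
import Cfsg.Agent.RuLattice.AllRange

/-!
Kernel check of a part of the census, in eight pieces to bound the memory of each.
-/

set_option autoImplicit false
set_option maxRecDepth 100000
set_option Elab.async false

namespace Cfsg.Agent.RuLattice

open Cfsg.Agent.CosetEnum

theorem censPart0_piece0 : allRange
    (fun j => cosetOK basisW ((span basisU).getD (0 + j) 0) (censPart0.getD j []) &&
      (censPart0.getD j []).all (wordOK parM planeM)) 0 8 = true := by decide +kernel

theorem censPart0_piece1 : allRange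
    (fun j => cosetOK basisW ((span basisU).getD (0 + j) 0) (censPart0.getD j []) &&
      (censPart0.getD j []).all (wordOK parM planeM)) 8 8 = true := by decide +kernel

theorem censPart0_piece2 : allRange
    (fun j => cosetOK basisW ((span basisU).getD (0 + j) 0) (censPart0.getD j []) &&
      (censPart0.getD j []).all (wordOK parM planeM)) 16 8 = true := by decide +kernel

theorem censPart0_piece3 : allRange
    (fun j => cosetOK basisW ((span basisU).getD (0 + j) 0) (censPart0.getD j []) &&
      (censPart0.getD j []).all (wordOK parM planeM)) 24 8 = true := by decide +kernel

theorem censPart0_piece4 : allRange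
    (fun j => cosetOK basisW ((span basisU).getD (0 + j) 0) (censPart0.getD j []) &&
      (censPart0.getD j []).all (wordOK parM planeM)) 32 8 = true := by decide +kernel

theorem censPart0_piece5 : allRange
    (fun j => cosetOK basisW ((span basisU).getD (0 + j) 0) (censPart0.getD j []) &&
      (censPart0.getD j []).all (wordOK parM planeM)) 40 8 = true := by decide +kernel

theorem censPart0_piece6 : allRange
    (fun j => cosetOK basisW ((span basisU).getD (0 + j) 0) (censPart0.getD j []) &&
      (censPart0.getD j []).all (wordOK parM planeM)) 48 8 = true := by decide +kernel

theorem censPart0_piece7 : allRange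
    (fun j => cosetOK basisW ((span basisU).getD (0 + j) 0) (censPart0.getD j []) &&
      (censPart0.getD j []).all (wordOK parM planeM)) 56 8 = true := by decide +kernel

theorem censPart0_count : censPart0.length = 8 + 8 + 8 + 8 + 8 + 8 + 8 + 8 := by decide +kernel

theorem censPart0_ok : partOK 0 censPart0 = true := by
  unfold partOK
  rw [censPart0_count]
  exact allRange_eight censPart0_piece0 censPart0_piece1 censPart0_piece2 censPart0_piece3 censPart0_piece4 censPart0_piece5 censPart0_piece6 censPart0_piece7

end Cfsg.Agent.RuLattice
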