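import Cfsg.Agent.RuLattice.BitCount
import Cfsg.Agent.RuLattice.Line

/-!
The computations behind the census of the vectors of norm 16: parity equations on each code word of weight
at most 16.
-/

set_option autoImplicit false

namespace Cfsg.Agent.RuLattice

open Cfsg.Agent.CosetEnum

/-- The parity of the set bits of a short number. -/
noncomputable def par (z : ℕ) : ℕ := pcA 56 z 0 % 2

/-- The combination of rows with numbers in `c`: its odd positions. -/
noncomputable def combE (c : ℕ) (L : List ℕ) : ℕ :=
  List.rec (motive := fun _ => ℕ → ℕ) (fun _ => 0)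
    (fun p _ ih c => forceNat (ih (c / 2)) fun r => bif Nat.beq (c % 2) 1 then Nat.xor r p else r) L c

/-- The parities forced on a word, one bit for each row. -/
noncomputable def halfV (m : ℕ) (L : List (ℕ × ℕ)) : ℕ :=
  List.rec (motive := fun _ => ℕ) 0
    (fun q _ ih => forceNat ih fun r =>
      2 * r + (pcA 56 (m &&& q.1) 0 + 2 * pcA 56 (m &&& q.2) 0) / 2 % 2) L

/-- The parity of a combination against the forced parities. -/
noncomputable def rhs (c hv : ℕ) : ℕ := pcA 40 (c &&& hv) 0 % 2

/-- How a word is settled. -/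
inductive WCert where
  | zero : WCert
  | eight : List ℕ → WCert
  | empty : ℕ → WCert
  | sol : List ℕ → List (ℕ × ℕ) → List ℕ → WCert

/-- The union of the bits of a list. -/
def orBits (L : List ℕ) : ℕ := L.foldr (fun b r => 2 ^ b ||| r) 0

/-- The negative positions from the free ones: the pivots follow from the equations. -/
noncomputable def rebuild (pm : List ℕ) (m hv : ℕ) (pivs : List (ℕ × ℕ)) (T0 : ℕ) : ℕ :=
  pivs.foldr (fun q r =>
    bif Nat.beq ((rhs q.2 hv + par (T0 &&& combE q.2 pm)) % 2) 1 then 2 ^ q.1 ||| r else r) T0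

/-- A vector with entries 1 on `m`, negated on `T`, agrees with a unit times a line. -/
noncomputable def sameV (m T q : ℕ) : Bool :=
  Nat.blt (q / 4) 4060 && forceNat (lineN (q / 4)) fun N => allRange (fun k =>
    Nat.beq (unitN N (q % 4) k) (bif m.testBit k then (bif T.testBit k then 7 else 9) else 8)) 0 56

/-- No two outside points repair the equations. -/
noncomputable def eightB (pm : List ℕ) (m hv : ℕ) (cs : List ℕ) : Bool :=
  (cs.all fun c => Nat.beq (combE c pm &&& m) 0) &&
    (allRange (fun a => allRange (fun b => cs.any fun c =>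
      !(Nat.beq ((par (combE c pm &&& (2 ^ a)) + par (combE c pm &&& (2 ^ b))) % 2) (rhs c hv))) 0 56) 0 56) &&
    allRange (fun a => cs.any fun c => !(Nat.beq (par (combE c pm &&& (2 ^ a))) (rhs c hv))) 0 56

/-- The check of one word. -/
noncomputable def wordOK (pm : List ℕ) (hm : List (ℕ × ℕ)) : ℕ × WCert → Bool
  | (m, .zero) => Nat.beq m 0
  | (m, .eight cs) => Nat.beq (pcA 56 m 0) 8 && forceNat (halfV m hm) fun hv => eightB pm m hv cs
  | (m, .empty c) => Nat.beq (pcA 56 m 0) 16 &&
      forceNat (halfV m hm) fun hv => Nat.beq (combE c pm &&& m) 0 && Nat.beq (rhs c hv) 1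
  | (m, .sol free pivs sols) => Nat.beq (pcA 56 m 0) 16 && forceNat (halfV m hm) fun hv =>
      forceNat (orBits free) fun F =>
      Nat.beq (F ||| orBits (pivs.map Prod.fst)) m &&
      (pivs.all fun q => Nat.beq ((combE q.2 pm &&& m) ||| F) (2 ^ q.1 ||| F) && !(F.testBit q.1)) &&
      Nat.beq (span (free.map fun b => 2 ^ b)).length sols.length &&
      ((span (free.map fun b => 2 ^ b)).zip sols).all fun z => sameV m (rebuild pm m hv pivs z.1) z.2

/-- The even positions. -/
def evenMask : ℕ := 0x55555555555555

/-- The pairs of positions on which `u` differs. -/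
def diffPairs (u : ℕ) : ℕ :=
  ((u >>> 1 ^^^ u) &&& evenMask) ||| ((u >>> 1 ^^^ u) &&& evenMask) <<< 1

/-- The check of one coset of the doubled code. -/
noncomputable def cosetOK (bw : List ℕ) (u : ℕ) (entries : List (ℕ × WCert)) : Bool :=
  forceNat (diffPairs u) fun D => forceNat (pcA 28 (pairCode 28 (u &&& D)) 0) fun c =>
    (bw.all fun b => Nat.beq (pairCode 28 (b &&& D)) 0) &&
    forceNat (Nat.xor (2 ^ 56 - 1) D) fun R =>
      (span bw).all fun w => forceNat (Nat.xor u w) fun x =>
        Nat.blt 16 (c + pcA (17 - c) (x &&& R) 0) || (entries.any fun e => Nat.beq e.1 x)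

end Cfsg.Agent.RuLattice
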