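import Cfsg.Agent.RuLattice.Census.Masks

/-!
The parity columns, and the multiples of four unit vectors among the lines.
-/

set_option autoImplicit false
set_option maxRecDepth 100000

namespace Cfsg.Agent.RuLattice

open Cfsg.Agent.CosetEnum

/-- The odd rows of each position. -/
def colC : List ℕ := [1, 2, 5, 8, 21, 42, 97, 80, 429, 960, 1696, 1154, 4436, 4938, 5237, 5668, 103850, 229968, 328712, 463808, 201641, 66578, 365964, 492037, 8655306, 8652324, 8655746, 8651856, 8656551, 8651060, 8651535, 8656032, 1082360594, 1082491909, 1082230336, 1082622244, 1082591080, 1082196081, 1082328418, 1082458632, 18253939380, 18254102944, 18253972688, 18254071685, 18253676762, 18253841281, 18253809048, 18253710978, 17179935729, 17180362120, 17180333092, 17179972128, 17180071014, 17180234285, 17180100086, 17180197824]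

/-- The line and unit of four times a unit vector and of its negative. -/
def frameQ : List ℕ := [15340, 15342, 15341, 15343, 6632, 6634, 6633, 6635, 2788, 2790, 2789, 2791, 864, 866, 865, 867, 860, 862, 861, 863, 344, 346, 345, 347, 340, 342, 341, 343, 336, 338, 337, 339, 332, 334, 333, 335, 72, 74, 73, 75, 68, 70, 69, 71, 64, 66, 65, 67, 60, 62, 61, 63, 56, 58, 57, 59, 52, 54, 53, 55, 48, 50, 49, 51, 44, 46, 45, 47, 40, 42, 41, 43, 36, 38, 37, 39, 32, 34, 33, 35, 28, 30, 29, 31, 24, 26, 25, 27, 20, 22, 21, 23, 16, 18, 17, 19, 12, 14, 13, 15, 8, 10, 9, 11, 4, 6, 5, 7, 0, 2, 1, 3]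

/-- All sums of one or two columns, with zero. -/
def colSums : List ℕ :=
  0 :: colC ++ (List.range 56).flatMap fun a => (List.range a).map fun b => colC.getD a 0 ^^^ colC.getD b 0

theorem colSums_distinct : distinctB colSums .leaf = true := by decide +kernel

theorem colC_spec : ∀ j : Fin 40, ∀ k : Fin 56,
    (colC.getD k.val 0).testBit j.val = (parM.getD j.val 0).testBit k.val := by decide +kernel

theorem colC_lt : ∀ k : Fin 56, colC.getD k.val 0 < 2 ^ 40 := by decide +kernel

theorem frameQ_spec : ∀ k : Fin 56, ∀ s : Fin 2,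
    frameQ.getD (2 * k.val + s.val) 16240 / 4 < 4060 ∧ ∀ l : Fin 56,
      unitV (lineN (frameQ.getD (2 * k.val + s.val) 16240 / 4))
        (frameQ.getD (2 * k.val + s.val) 16240 % 4) l = if l = k then (if s.val = 0 then 4 else -4) else 0 := by
  decide +kernel

theorem parM_length : parM.length = 40 ∧ planeM.length = 40 := by decide +kernel

theorem planeM_spec : ∀ j : Fin 40, ∀ k : Fin 56,
    (planeM.getD j.val (0, 0)).1 = parM.getD j.val 0 ∧
      ent j.val k = (bif (parM.getD j.val 0).testBit k.val then 1 else 0) +
        2 * (bif (planeM.getD j.val (0, 0)).2.testBit k.val then 1 else 0) := by decide +kernel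

end Cfsg.Agent.RuLattice
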