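import Cfsg.Agent.RuLattice.Census.Defs

/-!
The binary digit planes of the rows.
-/

set_option autoImplicit false

namespace Cfsg.Agent.RuLattice

/-- Odd positions of each row. -/
def parM : List ℕ := [9332802077081941, 22676608412362786, 32661037777998100, 9658729709773096, 18389474381811856, 35188189007299936, 58850758732968640, 55167998429302528, 55004552643556096, 47755729932297728, 24431520326732800, 0, 16888501108338688, 0, 0, 30018930898829312, 72057589759672320, 24323778491842560, 46742004524908544, 0, 0, 0, 0, 1099494850560, 0, 0, 0, 0, 0, 0, 281470681743360, 0, 0, 0, 72056494526300160, 0, 0, 0, 0, 0]

/-- Both digit planes of each row. -/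
def planeM : List (ℕ × ℕ) := [(9332802077081941, 9042392225153044), (22676608412362786, 22535870586357792), (32661037777998100, 5638434441969920), (9658729709773096, 563499710554144), (18389474381811856, 22128208511104), (35188189007299936, 7916965058433280), (58850758732968640, 54324756540838400), (55167998429302528, 61043797279327872), (55004552643556096, 58828373252739584), (47755729932297728, 14804422174267392), (24431520326732800, 2384219572602880), (0, 22676327811262464), (16888501108338688, 27963235404431360), (0, 9377253931638784), (0, 18423589204180992), (30018930898829312, 11093203757858816), (72057589759672320, 19660817774804992), (24323778491842560, 60327082746970112), (46742004524908544, 12758776658526208), (0, 40604229976981504), (0, 9332800734887936), (0, 33972783295758336), (0, 9298716447997952), (1099494850560, 54174611461373952), (0, 23925545389522944), (0, 54043283373948928), (0, 18296015891202048), (0, 11259345081729024), (0, 50103393573666816), (0, 2533767637893120), (281470681743360, 19262026379427840), (0, 30061360867966976), (0, 54904989306322944), (0, 4437560210227200), (72056494526300160, 45784351375360000), (0, 28643377415192576), (0, 14449781812232192), (0, 43413117111107584), (0, 25315155717914624), (0, 71776119061217280)]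

/-- The check of a part of the census. -/
noncomputable def partOK (s : ℕ) (L : List (List (ℕ × WCert))) : Bool :=
  Cfsg.Agent.CosetEnum.allRange (fun j =>
    cosetOK basisW ((span basisU).getD (s + j) 0) (L.getD j []) &&
      (L.getD j []).all (wordOK parM planeM)) 0 L.length

end Cfsg.Agent.RuLattice
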