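import Cfsg.Agent.RuLattice.Census.Frame

/-!
The equations modulo 2 satisfied by the digit planes of a lattice vector.
-/

set_option autoImplicit false

namespace Cfsg.Agent.RuLattice

open Cfsg.Agent.CosetEnum

theorem cnt_le (n r : ℕ) : cnt n r ≤ n := by
  refine (Finset.sum_le_sum (g := fun _ => (1 : ℕ)) fun i _ => by split <;> omega).trans ?_
  simp

theorem pcA_zero_eq {k n r : ℕ} (h : r < 2 ^ n) (hk : n ≤ k) : pcA k r 0 = cnt n r := by
  rw [pcA_eq k n r 0 h, Nat.zero_add]
  have := cnt_le n r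
  omega

theorem par_eq {z : ℕ} (h : z < 2 ^ 56) : par z = cnt 56 z % 2 := by
  rw [par, pcA_zero_eq h le_rfl]

theorem ones_eq_cnt : ∀ n m : ℕ, ones n m = cnt n m
  | 0, _ => rfl
  | n + 1, m => by
    rw [ones_succ, ones_eq_cnt n m, cnt, cnt, Fin.sum_univ_castSucc, Nat.add_comm]
    rfl

theorem cnt_xor_and (n z a b : ℕ) :
    cnt n (z &&& (a ^^^ b)) + 2 * cnt n (z &&& (a &&& b)) = cnt n (z &&& a) + cnt n (z &&& b) := by
  simp only [cnt, Finset.mul_sum, ← Finset.sum_add_distrib]
  refine Finset.sum_congr rfl fun i _ => ?_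
  simp only [Nat.testBit_and, Nat.testBit_xor]
  cases z.testBit i.val <;> cases a.testBit i.val <;> cases b.testBit i.val <;> rfl

theorem cnt_split (n x D R : ℕ) (h : ∀ i < n, R.testBit i = !(D.testBit i)) :
    cnt n x = cnt n (x &&& D) + cnt n (x &&& R) := by
  simp only [cnt, ← Finset.sum_add_distrib]
  refine Finset.sum_congr rfl fun i _ => ?_
  simp only [Nat.testBit_and, h i.val i.isLt]
  cases x.testBit i.val <;> cases D.testBit i.val <;> rfl

/-- The second binary digit plane. -/
def hiPlane (x : Vec) : ℕ := Nat.ofBits fun k : Fin 56 => decide (2 ≤ x k % 4)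

theorem hiPlane_testBit (x : Vec) (k : Fin 56) :
    (hiPlane x).testBit k.val = decide (2 ≤ x k % 4) := by
  rw [hiPlane, Nat.testBit_ofBits_lt _ _ k.isLt]

theorem hiPlane_lt (x : Vec) : hiPlane x < 2 ^ 56 := Nat.ofBits_lt_two_pow _

theorem mask_lt (x : Vec) : mask x < 2 ^ 56 := Nat.ofBits_lt_two_pow _

theorem cnt_cast (z : ℕ) : (cnt 56 z : ℤ) = ∑ k : Fin 56, if z.testBit k.val then (1 : ℤ) else 0 := by
  simp [cnt]

/-- The parity forced by a word on one row. -/
def halfOf (m : ℕ) (q : ℕ × ℕ) : ℕ := (cnt 56 (m &&& q.1) + 2 * cnt 56 (m &&& q.2)) / 2 % 2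

theorem plane_parity {x : Vec} (hx : x ∈ lat) (j : Fin 40) :
    cnt 56 (hiPlane x &&& parM.getD j.val 0) % 2 = halfOf (mask x) (planeM.getD j.val (0, 0)) := by
  set a := parM.getD j.val 0 with ha
  set b := (planeM.getD j.val (0, 0)).2 with hb
  have h1 : (planeM.getD j.val (0, 0)).1 = a := (planeM_spec j 0).1
  have hd := dvd_dot hx (row_mem j)
  have key : (4 : ℤ) ∣ dot x (row j) - ((cnt 56 (mask x &&& a) : ℤ) +
      2 * (cnt 56 (mask x &&& b) : ℤ) + 2 * (cnt 56 (hiPlane x &&& a) : ℤ)) := by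
    simp only [cnt_cast, dot, Finset.mul_sum, ← Finset.sum_add_distrib, ← Finset.sum_sub_distrib]
    refine Finset.dvd_sum fun k _ => ?_
    simp only [Nat.testBit_and, mask_testBit, hiPlane_testBit]
    have hr : (row j k : ℤ) = (ent j.val k : ℤ) := rfl
    rw [hr, (planeM_spec j k).2, ← ha, ← hb]
    cases a.testBit k.val <;> cases b.testBit k.val <;> push_cast <;>
      simp only [cond_true, cond_false, Bool.and_true, Bool.and_false, Bool.false_eq_true, if_false,
        Nat.cast_zero, Nat.cast_one] <;>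
      (try simp only [decide_eq_true_eq]) <;> (try split_ifs) <;>
      rw [Int.dvd_iff_emod_eq_zero] <;> omega
  obtain ⟨c, hc⟩ := hd
  obtain ⟨d, hd⟩ := key
  rw [halfOf, h1, ← hb]
  omega

theorem halfV_spec (m : ℕ) (hm : m < 2 ^ 56) : ∀ (L : List (ℕ × ℕ)),
    halfV m L < 2 ^ L.length ∧ ∀ j < L.length,
      (halfV m L).testBit j = decide (halfOf m (L.getD j (0, 0)) = 1)
  | [] => by simp [halfV]
  | q :: L => by
    obtain ⟨h1, h2⟩ := halfV_spec m hm L
    have e : halfV m (q :: L) = 2 * halfV m L + halfOf m q := by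
      show forceNat (halfV m L) (fun r =>
        2 * r + (pcA 56 (m &&& q.1) 0 + 2 * pcA 56 (m &&& q.2) 0) / 2 % 2) = _
      rw [forceNat_eq, pcA_zero_eq (lt_of_le_of_lt Nat.and_le_left hm) le_rfl,
        pcA_zero_eq (lt_of_le_of_lt Nat.and_le_left hm) le_rfl, halfOf]
    have hlt : halfOf m q < 2 := Nat.mod_lt _ (by norm_num)
    refine ⟨?_, fun j hj => ?_⟩
    · rw [e, List.length_cons, pow_succ]; omega
    · rw [e]
      cases j with
      | zero =>
        rw [Nat.testBit_zero, List.getD_cons_zero]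
        congr 1
        rw [eq_iff_iff]
        omega
      | succ j =>
        rw [Nat.testBit_succ, List.getD_cons_succ, show (2 * halfV m L + halfOf m q) / 2 = halfV m L by omega]
        exact h2 j (by simpa using hj)

theorem combE_cons (c p : ℕ) (L : List ℕ) :
    combE c (p :: L) = bif Nat.beq (c % 2) 1 then combE (c / 2) L ^^^ p else combE (c / 2) L := by
  show forceNat (combE (c / 2) L) (fun r => bif Nat.beq (c % 2) 1 then Nat.xor r p else r) = _
  rw [forceNat_eq]
  rfl

theorem combE_parity (z : ℕ) : ∀ (L : List ℕ) (c hv : ℕ),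
    (∀ j < L.length, decide (cnt 56 (z &&& L.getD j 0) % 2 = 1) = hv.testBit j) →
    cnt 56 (z &&& combE c L) % 2 = cnt L.length (c &&& hv) % 2
  | [], c, hv, _ => by simp [combE, cnt]
  | p :: L, c, hv, h => by
    have ih := combE_parity z L (c / 2) (hv / 2) fun j hj => by
      rw [← Nat.testBit_succ]
      simpa using h (j + 1) (by simpa using hj)
    have h0 := h 0 (by simp)
    rw [List.getD_cons_zero, Nat.testBit_zero, decide_eq_decide] at h0
    rw [combE_cons, List.length_cons, cnt_succ L.length (c &&& hv), Nat.and_div_two]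
    have hand : (c &&& hv) % 2 = if c % 2 = 1 ∧ hv % 2 = 1 then 1 else 0 := by
      have h2 : decide ((c &&& hv) % 2 = 1) = (decide (c % 2 = 1) && decide (hv % 2 = 1)) := by
        rw [← Nat.testBit_zero, ← Nat.testBit_zero, ← Nat.testBit_zero, Nat.testBit_and]
      rw [← Bool.decide_and, decide_eq_decide] at h2
      split_ifs with h3
      · exact h2.2 h3
      · rcases Nat.mod_two_eq_zero_or_one (c &&& hv) with e | e
        · exact e
        · exact absurd (h2.1 e) h3
    rw [hand]
    rcases Nat.mod_two_eq_zero_or_one c with hc | hc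
    · rw [hc, show Nat.beq 0 1 = false from rfl, cond_false, if_neg (fun e => absurd e.1 (by norm_num)),
        Nat.add_zero]
      exact ih
    · rw [hc, show Nat.beq 1 1 = true from rfl, cond_true]
      have hx := cnt_xor_and 56 z (combE (c / 2) L) p
      split_ifs with h3
      · have := h0.2 h3.2; omega
      · have hp : ¬ cnt 56 (z &&& p) % 2 = 1 := fun e => h3 ⟨rfl, h0.1 e⟩
        omega

/-- The equation of a combination. -/
theorem comb_equation {x : Vec} (hx : x ∈ lat) (c : ℕ) :
    cnt 56 (hiPlane x &&& combE c parM) % 2 = rhs c (halfV (mask x) planeM) := by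
  obtain ⟨h1, h2⟩ := halfV_spec (mask x) (mask_lt x) planeM
  rw [parM_length.2] at h1 h2
  have h := combE_parity (hiPlane x) parM c (halfV (mask x) planeM) fun j hj => by
    rw [parM_length.1] at hj
    rw [h2 j hj, plane_parity hx ⟨j, hj⟩]
  rw [h, parM_length.1, rhs, pcA_zero_eq (lt_of_le_of_lt Nat.and_le_right h1) le_rfl]

end Cfsg.Agent.RuLattice
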