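import Cfsg.Agent.RuLattice.Census.Parity
import Cfsg.Agent.RuLattice.Census.Check0
import Cfsg.Agent.RuLattice.Census.Check1
import Cfsg.Agent.RuLattice.Census.Check2
import Cfsg.Agent.RuLattice.Census.Check3
import Cfsg.Agent.RuLattice.Census.Check4
import Cfsg.Agent.RuLattice.Census.Check5
import Cfsg.Agent.RuLattice.Census.Check6
import Cfsg.Agent.RuLattice.Census.Check7

/-!
Every code word of weight at most 16 of a lattice vector carries a certificate.
-/

set_option autoImplicit false
set_option maxRecDepth 100000

namespace Cfsg.Agent.RuLattice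

open Cfsg.Agent.CosetEnum

theorem censPart0_length : censPart0.length = 64 := by decide +kernel
theorem censPart1_length : censPart1.length = 64 := by decide +kernel
theorem censPart2_length : censPart2.length = 64 := by decide +kernel
theorem censPart3_length : censPart3.length = 64 := by decide +kernel
theorem censPart4_length : censPart4.length = 64 := by decide +kernel
theorem censPart5_length : censPart5.length = 64 := by decide +kernel
theorem censPart6_length : censPart6.length = 64 := by decide +kernel
theorem censPart7_length : censPart7.length = 64 := by decide +kernel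

theorem spanU_length : (span basisU).length = 512 := by decide +kernel

theorem coset_cert (a : ℕ) (ha : a < 512) : ∃ L : List (ℕ × WCert),
    cosetOK basisW ((span basisU).getD a 0) L = true ∧ ∀ e ∈ L, wordOK parM planeM e = true := by
  have fin : ∀ (s : ℕ) (P : List (List (ℕ × WCert))), partOK s P = true → P.length = 64 →
      s ≤ a → a < s + 64 → ∃ L : List (ℕ × WCert),
        cosetOK basisW ((span basisU).getD a 0) L = true ∧ ∀ e ∈ L, wordOK parM planeM e = true := by
    intro s P h hl h1 h2
    have := allRange_spec h (a - s) (Nat.zero_le _) (by omega)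
    simp only [Bool.and_eq_true, List.all_eq_true] at this
    rw [show s + (a - s) = a by omega] at this
    exact ⟨_, this⟩
  rcases (show a < 64 ∨ (64 ≤ a ∧ a < 128) ∨ (128 ≤ a ∧ a < 192) ∨ (192 ≤ a ∧ a < 256) ∨
    (256 ≤ a ∧ a < 320) ∨ (320 ≤ a ∧ a < 384) ∨ (384 ≤ a ∧ a < 448) ∨ 448 ≤ a by omega) with
    h | h | h | h | h | h | h | h
  · exact fin 0 censPart0 censPart0_ok censPart0_length (by omega) (by omega)
  · exact fin 64 censPart1 censPart1_ok censPart1_length (by omega) (by omega)
  · exact fin 128 censPart2 censPart2_ok censPart2_length (by omega) (by omega)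
  · exact fin 192 censPart3 censPart3_ok censPart3_length (by omega) (by omega)
  · exact fin 256 censPart4 censPart4_ok censPart4_length (by omega) (by omega)
  · exact fin 320 censPart5 censPart5_ok censPart5_length (by omega) (by omega)
  · exact fin 384 censPart6 censPart6_ok censPart6_length (by omega) (by omega)
  · exact fin 448 censPart7 censPart7_ok censPart7_length (by omega) (by omega)

theorem mapped_pairs {D : ℕ} : ∀ {b : List ℕ} {w : ℕ}, w ∈ span b →
    w &&& D ∈ span (b.map fun x => x &&& D)
  | [], w, h => by
    rw [span_nil, List.mem_singleton] at h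
    subst h
    simp [span_nil]
  | y :: bs, w, h => by
    simp only [List.map_cons, span_cons, List.mem_append, List.mem_map] at h ⊢
    rcases h with h | ⟨w', h, rfl⟩
    · exact Or.inl (mapped_pairs h)
    · exact Or.inr ⟨w' &&& D, mapped_pairs h, (Nat.and_xor_distrib_right ..).symm⟩

theorem word_cert {x : Vec} (hx : x ∈ lat) (h16 : cnt 56 (mask x) ≤ 16) :
    ∃ c : WCert, wordOK parM planeM (mask x, c) = true := by
  obtain ⟨u, hu, w, hw, e⟩ := mask_mem hx
  obtain ⟨a, ha, rfl⟩ := List.getElem_of_mem hu
  obtain ⟨L, hL, hall⟩ := coset_cert a (spanU_length ▸ ha)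
  rw [List.getD_eq_getElem _ _ ha] at hL
  set u := (span basisU)[a]
  simp only [cosetOK, forceNat_eq, Bool.and_eq_true, List.all_eq_true] at hL
  obtain ⟨hb, hw'⟩ := hL
  set D := diffPairs u
  set R := Nat.xor (2 ^ 56 - 1) D
  have hm := mask_lt x
  have hc0 : pcA 28 (pairCode 28 (u &&& D)) 0 = cnt 28 (pairCode 28 (u &&& D)) :=
    pcA_zero_eq (pairCode_lt 28 _) le_rfl
  have hzero : pairCode 28 (w &&& D) = 0 := by
    refine pairCode_span_W (b := basisW.map fun y => y &&& D) ?_ (mapped_pairs hw)
    rw [List.all_map, List.all_eq_true]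
    intro y hy
    have := Nat.eq_of_beq_eq_true (hb y hy)
    simp [this]
  have hlow : pcA 28 (pairCode 28 (u &&& D)) 0 ≤ cnt 56 (mask x &&& D) := by
    have h := ones_pair_le 28 (mask x &&& D) (pairCode 28 (mask x &&& D))
      fun i hi => pairCode_testBit 28 _ i hi
    rw [ones_eq_cnt, ones_eq_cnt] at h
    rw [hc0]
    refine le_trans (le_of_eq ?_) h
    rw [e, Nat.and_xor_distrib_right, pairCode_xor, hzero, Nat.xor_zero]
  have hsplit := cnt_split 56 (mask x) D R fun i hi => by
    show ((2 ^ 56 - 1) ^^^ D).testBit i = _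
    rw [Nat.testBit_xor, Nat.testBit_two_pow_sub_one, decide_eq_true hi, Bool.true_xor]
  set c := pcA 28 (pairCode 28 (u &&& D)) 0
  have hpc : pcA (17 - c) (mask x &&& R) 0 = cnt 56 (mask x &&& R) := by
    rw [pcA_eq _ 56 _ 0 (lt_of_le_of_lt Nat.and_le_left hm)]
    omega
  have h := hw' w hw
  rw [show Nat.xor u w = mask x from e.symm, hpc] at h
  simp only [Bool.or_eq_true] at h
  rcases h with h | h
  · have := Nat.le_of_ble_eq_true h
    omega
  · obtain ⟨⟨m, ct⟩, hmem, hme⟩ := List.any_eq_true.1 h
    have hme : m = mask x := Nat.eq_of_beq_eq_true hme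
    exact ⟨ct, hme ▸ hall _ hmem⟩

end Cfsg.Agent.RuLattice
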